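import Groth.Agent.Lib.PointBlow96.Euler
import Groth.Agent.Lib.PointBlow96.Powers
import Groth.Agent.Lib.SurfRR.PlaneBlow
import Groth.Agent.Lib.Curves.Clifford
import Groth.Agent.Lib.SurfInt.H2Basic
import Groth.Agent.H4.CurveThrough
import Groth.Agent.Lib.SurfFactor85.Iso
import Groth.Agent.Lib.SurfFactor85.Seq
import Groth.Agent.Lib.SurfInt.NefInt
import Groth.Agent.Lib.SurfInt.Bound
import Groth.Agent.Lib.SurfInt.CurvePos
import Groth.Agent.Lib.HProj.QuasiProj
import Groth.Agent.Lib.Cyc.SmoothReg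
import Groth.Agent.Lib.ProjSpace.Dim

/-!
# The blow-up of the plane at a closed point: line bundles `pH - bE`
-/

set_option autoImplicit false
set_option linter.style.haveILetI false
set_option linter.unusedSectionVars false
set_option quotPrecheck false
universe u

open CategoryTheory CategoryTheory.Limits AlgebraicGeometry TopologicalSpace

noncomputable section

namespace Groth.Agent.Lib.H27.PlanePoint

open Groth.Agent.Lib Groth.Agent.Lib.TensorMod.Basic Groth.Agent.Lib.ProjCoh.Coherent
open Groth.Agent.Lib.TensorMod.Pullback (pb)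
open Groth.Agent.Lib.SurfRR

variable {k : Type u} [Field k] [IsAlgClosed k]


omit [IsAlgClosed k] in
/-- A morphism from a complete integral scheme into an affine open is constant. -/
theorem const_of_affine {C P : Scheme.{u}} [IsIntegral C]
    (f : C ⟶ Spec (CommRingCat.of k)) [UniversallyClosed f] (g : C ⟶ P) (U : P.Opens) (hU : IsAffineOpen U)
    (h : Set.range g ⊆ (U : Set P)) (c c' : C) : g c = g c' := by
  haveI : IsAffine U := hU
  let g' := IsOpenImmersion.lift U.ι g (by rwa [Scheme.Opens.range_ι])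
  have hg' : g' ≫ U.ι = g := IsOpenImmersion.lift_fac _ _ _
  letI := (isField_of_universallyClosed (K := k) f).toField
  have hc : C.toSpecΓ c = C.toSpecΓ c' :=
    Subsingleton.elim (α := PrimeSpectrum Γ(C, ⊤)) _ _
  have hn : g' ≫ U.toScheme.toSpecΓ = C.toSpecΓ ≫ Spec.map g'.appTop :=
    Scheme.toSpecΓ_naturality g'
  have h1 : U.toScheme.toSpecΓ (g' c) = U.toScheme.toSpecΓ (g' c') := by
    rw [← Scheme.Hom.comp_apply, ← Scheme.Hom.comp_apply, hn, Scheme.Hom.comp_apply,
      Scheme.Hom.comp_apply, hc]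
  have h3 : g' c = g' c' := (Scheme.homeoOfIso (asIso U.toScheme.toSpecΓ)).injective h1
  rw [← hg', Scheme.Hom.comp_apply, Scheme.Hom.comp_apply, h3]

theorem dim_plane : topologicalKrullDim (CohB1.ProjSpace 2 k) = 2 := by
  rw [ProjSpace.Dim.topologicalKrullDim_projSpace_of_field 2 k]; rfl

theorem reg_plane (y : (CohB1.ProjSpace 2 k)) : IsRegularLocalRing (((CohB1.ProjSpace 2 k)).presheaf.stalk y) :=
  Cyc.SmoothReg.isRegularLocalRing_stalk (CohB1.ProjSpace.toSpec 2 k) y

variable {X : Scheme.{u}} [X.Over (Spec (CommRingCat.of k))] {σ : X ⟶ (CohB1.ProjSpace 2 k)}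
  (hσk : σ ≫ CohB1.ProjSpace.toSpec 2 k = X ↘ Spec (CommRingCat.of k))
  {x : (CohB1.ProjSpace 2 k)} (hx : IsClosed ({x} : Set (CohB1.ProjSpace 2 k)))
  (hσ : BlowUp.IsBlowUp σ (Scheme.IdealSheafData.vanishingIdeal ⟨{x}, hx⟩))

local notation "EE" => BlowUp.exceptional σ (Scheme.IdealSheafData.vanishingIdeal ⟨{x}, hx⟩)
local notation "HH1" => (Scheme.Modules.pullback σ).obj (Twist.twistProjSpace 2 k 1)
local notation "II" => _root_.ClSub.idealMod EE
local notation "dot" L:max M:max => FGA.intNum k X 2 ![L, M] (Coh.structureModule X)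

include hσk hσ

theorem setup : IsIntegral X ∧ IsProper (X ↘ Spec (CommRingCat.of k)) ∧
    Smooth (X ↘ Spec (CommRingCat.of k)) ∧ topologicalKrullDim X = 2 := by
  letI : ((CohB1.ProjSpace 2 k)).Over (Spec (CommRingCat.of k)) := ⟨CohB1.ProjSpace.toSpec 2 k⟩
  haveI : IsProper ((CohB1.ProjSpace 2 k) ↘ Spec (CommRingCat.of k)) :=
    inferInstanceAs (IsProper (CohB1.ProjSpace.toSpec 2 k))
  haveI : IsIntegral (CohB1.ProjSpace 2 k) := ProjSpace.Basic.isIntegral_projSpace 2 k
  have hσk' : σ ≫ ((CohB1.ProjSpace 2 k) ↘ Spec (CommRingCat.of k)) = X ↘ Spec (CommRingCat.of k) := hσk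
  haveI := PointBlow96.isProper_X k hx hσk' hσ
  haveI := PointBlow96.isIntegral_X k dim_plane hx hσk' hσ
  haveI := Curves.GlobalSections.isNoetherian_of_proper k (CohB1.ProjSpace 2 k)
  have hd := PointBlow96.dim_X k dim_plane hx hσk' hσ
  refine ⟨inferInstance, inferInstance, H4.CurveThrough.smooth_of_regular_closed _ fun y _ => ?_, hd⟩
  haveI := Ideal.BlowUp.isIso_off_center hσ
  by_cases hy : σ y = x
  · haveI := reg_plane (k := k) x
    exact SurfFactor85.Iso.isRegularLocalRing_blowUp_stalk σ x hx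
      (PointBlow96.stalk_dim dim_plane hx ((CohB1.ProjSpace 2 k) ↘ Spec (CommRingCat.of k))) hσ y hy
  · haveI := reg_plane (k := k) (σ y)
    haveI := Ideal.BlowUp.isIso_stalkMap_off hσ y (by
      rw [Scheme.IdealSheafData.support_comap]
      show σ y ∉ ((Scheme.IdealSheafData.vanishingIdeal ⟨{x}, hx⟩).support : Set (CohB1.ProjSpace 2 k))
      rw [Scheme.IdealSheafData.coe_support_vanishingIdeal]
      exact hy)
    exact IsRegularLocalRing.of_ringEquiv (asIso (σ.stalkMap y)).commRingCatIsoToRingEquiv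

variable [IsIntegral X] [IsProper (X ↘ Spec (CommRingCat.of k))]
  [Smooth (X ↘ Spec (CommRingCat.of k))] [IsNoetherian X] (hdim : topologicalKrullDim X = 2)

include hdim

theorem isInvertible_H : PicF.IsInvertible HH1 :=
  PicLoc.isInvertible_pullback σ (isInvertible_tw (n := 2) (R := k) 1)

theorem isInvertible_E : PicF.IsInvertible II := SurfInt.Effective.isInvertible_idealMod hσ.1

/-- Adjunction for effective divisors. -/
theorem adjunction {G : X.IdealSheafData} (hG : BlowUp.IsEffCartierIdeal G) {W : X.Modules}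
    (hW : ExtPow.IsExtPow 2 (Omega.sheaf (X ↘ Spec (CommRingCat.of k))) W) :
    dot (_root_.ClSub.idealMod G) (_root_.ClSub.idealMod G) - dot (_root_.ClSub.idealMod G) W =
      -2 * Curv2.euler k X (_root_.ClSub.quotMod G) := by
  have hd : topologicalKrullDim X ≤ ((2 : ℕ) : WithBot ℕ∞) := by exact_mod_cast hdim.le
  have hI := SurfInt.Effective.isInvertible_idealMod hG
  have h := SurfInt.Effective.chi_quot (Snapper.Finite.cohFinite k X) hd hI
  simp only [← Snapper.Chi.euler_eq_eulerCharLE hd] at h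
  linarith [Proper.riemannRoch hdim hW hI]

/-- `χ(O_C) ≤ 1` for an integral curve. -/
theorem euler_quot_le_one (C : X.IdealSheafData) [IsIntegral C.subscheme]
    (hCd : topologicalKrullDim (C.support : Set X) = 1) :
    Curv2.euler k X (_root_.ClSub.quotMod C) ≤ 1 := by
  letI := SurfInt.Surface.overSub (k := k) C
  haveI : IsProper (C.subscheme ↘ Spec (CommRingCat.of k)) :=
    inferInstanceAs (IsProper (C.subschemeι ≫ (X ↘ Spec (CommRingCat.of k))))
  have hd : topologicalKrullDim C.subscheme ≤ 1 :=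
    ((SurfInt.Surface.dim_subscheme C).trans hCd).le
  rw [SurfInt.Surface.euler_quot, Curves.Degree.euler_structureModule (k := k) hd
    (Curves.GlobalSections.finrank_h0_structure k C.subscheme)]
  omega

/-- `H¹` of a module of degree `≥ -1` on a rational curve vanishes. -/
theorem subsingleton_h1_twist (C : X.IdealSheafData) [IsIntegral C.subscheme]
    (hCd : topologicalKrullDim (C.support : Set X) = 1)
    (hg : 1 ≤ Curv2.euler k X (_root_.ClSub.quotMod C)) {M : X.Modules} (hM : PicF.IsInvertible M)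
    (hdeg : dot (_root_.ClSub.idealMod C) M ≤ 1) :
    Subsingleton (Coh.HH X (CohB1.tensorMod M (_root_.ClSub.quotMod C)) 1) := by
  letI := SurfInt.Surface.overSub (k := k) C
  haveI : IsProper (C.subscheme ↘ Spec (CommRingCat.of k)) :=
    inferInstanceAs (IsProper (C.subschemeι ≫ (X ↘ Spec (CommRingCat.of k))))
  have hfin := Snapper.Finite.cohFinite k X
  have hd : topologicalKrullDim C.subscheme ≤ 1 :=
    ((SurfInt.Surface.dim_subscheme C).trans hCd).le
  have h0 := Curves.GlobalSections.finrank_h0_structure k C.subscheme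
  have hχ := Curves.Degree.euler_structureModule (k := k) hd h0
  rw [SurfInt.Surface.euler_quot, hχ] at hg
  let P := (Scheme.Modules.pullback C.subschemeι).obj M
  have hP : PicF.IsInvertible P := PicLoc.isInvertible_pullback C.subschemeι hM
  rw [SurfInt.Surface.intNum_ideal_eq_neg_deg (d := 2) hfin hdim.le
    (SurfInt.Effective.isInvertible_idealMod
      (SurfInt.NegDef.isEff hfin hdim (SurfInt.NegDef.regular_of_smooth (k := k) (X := X)) C hCd)) hM] at hdeg
  haveI hsub : Subsingleton (Coh.HH C.subscheme P 1) :=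
    Curves.Clifford.subsingleton_one_of_deg k hd h0 hP (by simp only [P]; omega)
  haveI : P.IsQuasicoherent := TensorMod.QCohInv.isQCoh_of_isInvertible hP
  have hE := Modules.DualBasis.hasDBases_of_isFinLocFree
    (TensorMod.LocFree.of_rank (TensorMod.LocFree.of_isInvertible hM))
  have e : CohB1.tensorMod M (_root_.ClSub.quotMod C) ≅ (Coh.push C.subschemeι).obj P :=
    (Modules.ProjFormula.projIso C.subschemeι hE).app (Coh.structureModule C.subscheme) ≪≫
      (Coh.push C.subschemeι).mapIso (rightUnit P)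
  haveI : Subsingleton (Coh.HH X ((Coh.push C.subschemeι).obj P) 1) :=
    (ZarCoh.Morph.affineEquiv C.subschemeι P 1).toEquiv.subsingleton
  exact (Curves.LES.isoK k e 1).toEquiv.subsingleton

/-- The intersection table of `H` and the exceptional ideal. -/
theorem table : dot HH1 HH1 = 1 ∧ dot HH1 II = 0 ∧ dot II II = -1 ∧
    Curv2.euler k X (_root_.ClSub.quotMod EE) = 1 := by
  letI : ((CohB1.ProjSpace 2 k)).Over (Spec (CommRingCat.of k)) := ⟨CohB1.ProjSpace.toSpec 2 k⟩
  haveI : IsProper ((CohB1.ProjSpace 2 k) ↘ Spec (CommRingCat.of k)) :=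
    inferInstanceAs (IsProper (CohB1.ProjSpace.toSpec 2 k))
  haveI : IsIntegral (CohB1.ProjSpace 2 k) := ProjSpace.Basic.isIntegral_projSpace 2 k
  have hσk' : σ ≫ ((CohB1.ProjSpace 2 k) ↘ Spec (CommRingCat.of k)) = X ↘ Spec (CommRingCat.of k) := hσk
  obtain ⟨W, hW⟩ := PlaneBlow.exists_canonical hdim σ hσk hx (Set.finite_singleton x) hσ
  refine ⟨(PlaneBlow.intNum_self_canonical hdim σ hσk hx (Set.finite_singleton x) hσ hW).1,
    PointBlow96.intNum_pullback_exceptional k dim_plane reg_plane hx hσk' hσ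
      (isInvertible_tw (n := 2) (R := k) 1),
    PointBlow96.intNum_exceptional_self k dim_plane reg_plane hx hσk' hσ, ?_⟩
  rw [Snapper.Chi.euler_eq_eulerCharLE hdim.le]
  have h := PointBlow96.eulerCharLE_quot k dim_plane reg_plane hx hσk' hσ 1 (Or.inl rfl)
  simpa using h

/-- The exceptional curve is integral of dimension one. -/
theorem exceptional_curve : IsIntegral (EE).subscheme ∧
    topologicalKrullDim ((EE).support : Set X) = 1 := by
  letI : ((CohB1.ProjSpace 2 k)).Over (Spec (CommRingCat.of k)) := ⟨CohB1.ProjSpace.toSpec 2 k⟩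
  haveI : IsProper ((CohB1.ProjSpace 2 k) ↘ Spec (CommRingCat.of k)) :=
    inferInstanceAs (IsProper (CohB1.ProjSpace.toSpec 2 k))
  haveI : IsIntegral (CohB1.ProjSpace 2 k) := ProjSpace.Basic.isIntegral_projSpace 2 k
  haveI := Curves.GlobalSections.isNoetherian_of_proper k (CohB1.ProjSpace 2 k)
  haveI := reg_plane (k := k) x
  obtain ⟨-, k', hk', e, -⟩ := SurfFactor85.Seq.isExcCurve σ x hx
    (PointBlow96.stalk_dim dim_plane hx ((CohB1.ProjSpace 2 k) ↘ Spec (CommRingCat.of k))) hσ
  haveI : IsIntegral (CohB1.ProjSpace 1 k') := ProjSpace.Basic.isIntegral_projSpace 1 k'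
  haveI : Nonempty (EE).subscheme := ⟨e.hom (genericPoint _)⟩
  refine ⟨isIntegral_of_isOpenImmersion e.inv, ?_⟩
  rw [← SurfInt.Surface.dim_subscheme, ← IsHomeomorph.topologicalKrullDim_eq _ e.hom.homeomorph.isHomeomorph,
    ProjSpace.Dim.topologicalKrullDim_projSpace_of_field 1 k']
  rfl

/-- `H` is nonnegative on curves, and zero only on the exceptional curve. -/
theorem deg_H (C : X.IdealSheafData) [IsIntegral C.subscheme]
    (hCd : topologicalKrullDim (C.support : Set X) = 1) :
    dot (_root_.ClSub.idealMod C) HH1 ≤ 0 ∧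
      (dot (_root_.ClSub.idealMod C) HH1 = 0 → C = EE) := by
  have hfin := Snapper.Finite.cohFinite k X
  have hreg := SurfInt.NegDef.regular_of_smooth (k := k) (X := X)
  have hH := isInvertible_H hσk hx hσ hdim
  rw [SurfInt.Surface.intNum_ideal_eq_neg_deg (d := 2) hfin hdim.le
    (SurfInt.Effective.isInvertible_idealMod (SurfInt.NegDef.isEff hfin hdim hreg C hCd)) hH]
  letI := SurfInt.Surface.overSub (k := k) C
  haveI : IsProper (C.subscheme ↘ Spec (CommRingCat.of k)) :=
    inferInstanceAs (IsProper (C.subschemeι ≫ (X ↘ Spec (CommRingCat.of k))))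
  haveI := Curves.GlobalSections.isNoetherian_of_proper k C.subscheme
  have hdC : topologicalKrullDim C.subscheme ≤ 1 := by rw [SurfInt.Surface.dim_subscheme, hCd]
  let g := C.subschemeι ≫ σ
  let z : C.subscheme := genericPoint C.subscheme
  have hA : CohB1.IsAmple (Twist.twistProjSpace 2 k 1) := HProj.QuasiProj.isAmple_twist_projSpace 2 k
  obtain ⟨n, t, ht, haff⟩ := hA.2.2 (g z)
  let t' := (PicLoc.pullbackStructureIso g).inv ≫ (Scheme.Modules.pullback g).map t
  have hloc : CohB1.genLocus _ t' = g ⁻¹ᵁ CohB1.genLocus _ t :=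
    Ample.GenLocus.genLocus_pullback g (TensorMod.Invertible.isInvertible_tensorPow hA.1 (n + 1)) t
      (PicLoc.pullbackStructureIso g).symm
  let t'' := t' ≫ (Ample.Pow.pullbackPow g (Twist.twistProjSpace 2 k 1) (n + 1)).hom
  have hz : z ∈ CohB1.genLocus _ t'' := by
    rw [Ample.GenLocus.genLocus_comp_iso, hloc]
    exact ht
  have hPA : PicF.IsInvertible ((Scheme.Modules.pullback g).obj (Twist.twistProjSpace 2 k 1)) :=
    PicLoc.isInvertible_pullback g hA.1
  have hP := TensorMod.Invertible.isInvertible_tensorPow hPA (n + 1)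
  have hne := SurfInt.Pencil.ne_zero_of_mem_genLocus hP hz
  have hO := PicLoc.isInvertible_structureModule C.subscheme
  have gO := Curves.Degree.isGood_structureModule (k := k) (X := C.subscheme) hdC
  have gP := Curves.Degree.isGood (k := k) hdC hP
  have hle := Curves.Positivity.deg_le_of_ne_zero hdC hO hP gO gP hne
  rw [Curves.Degree.deg_structureModule, SurfInt.CurvePos.deg_tensorPow hdC hPA] at hle
  let eg : (Scheme.Modules.pullback C.subschemeι).obj HH1 ≅
      (Scheme.Modules.pullback g).obj (Twist.twistProjSpace 2 k 1) :=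
    (Scheme.Modules.pullbackComp C.subschemeι σ).app _
  rw [Curves.Euler.deg_eq_of_iso eg]
  have hd0 : 0 ≤ Curv2.deg k C.subscheme ((Scheme.Modules.pullback g).obj (Twist.twistProjSpace 2 k 1)) 1 :=
    (mul_nonneg_iff_of_pos_left (by positivity)).mp hle
  refine ⟨by linarith, fun h0 => ?_⟩
  rw [neg_eq_zero] at h0
  haveI : IsIso t'' := Curves.Positivity.isIso_of_deg_eq (k := k) hdC hO hP gO gP hne (by
    rw [Curves.Degree.deg_structureModule, SurfInt.CurvePos.deg_tensorPow hdC hPA, h0, mul_zero])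
  have htop : g ⁻¹ᵁ CohB1.genLocus _ t = ⊤ := by
    rw [← hloc, ← Ample.GenLocus.genLocus_comp_iso t' (Ample.Pow.pullbackPow g (Twist.twistProjSpace 2 k 1) (n + 1))]
    show CohB1.genLocus _ t'' = ⊤
    rw [show t'' = 𝟙 _ ≫ (asIso t'').hom by simp, Ample.GenLocus.genLocus_comp_iso,
      Ample.GenLocus.genLocus_id]
  have hsub : ∀ c c' : C.subscheme, g c = g c' :=
    const_of_affine (C.subscheme ↘ Spec (CommRingCat.of k)) g (CohB1.genLocus _ t) haff (by
      rintro _ ⟨c, rfl⟩
      exact (htop.ge (trivial : c ∈ (⊤ : C.subscheme.Opens))))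
  obtain ⟨hEint, hEd⟩ := exceptional_curve hσk hx hσ hdim
  haveI := hEint
  by_contra hCE
  have hgen : σ (C.subschemeι z) ≠ x := by
    intro hzx
    apply hCE
    refine SurfInt.Curve.eq_of_gen_eq C EE (VarDim.Basic.eq_of_pdim_le (X ↘ Spec (CommRingCat.of k))
      (Ideal.Prime.gen_specializes EE ?_)
      (by rw [SurfInt.Curve.pdim_gen _ C hCd, SurfInt.Curve.pdim_gen _ EE hEd])).symm
    rw [← SetLike.mem_coe, Scheme.IdealSheafData.support_comap]
    show σ (C.subschemeι z) ∈ ((Scheme.IdealSheafData.vanishingIdeal ⟨{x}, hx⟩).support : Set (CohB1.ProjSpace 2 k))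
    rw [Scheme.IdealSheafData.coe_support_vanishingIdeal]
    exact hzx
  haveI : Subsingleton C.subscheme := ⟨fun c c' => by
    apply C.subschemeι.isClosedEmbedding.injective
    haveI := Ideal.BlowUp.isIso_off_center hσ
    set U := (Scheme.IdealSheafData.vanishingIdeal ⟨{x}, hx⟩).support.compl
    have hm : ∀ d : C.subscheme, C.subschemeι d ∈ σ ⁻¹ᵁ U := fun d => by
      show σ (C.subschemeι d) ∉ ((Scheme.IdealSheafData.vanishingIdeal ⟨{x}, hx⟩).support : Set (CohB1.ProjSpace 2 k))
      rw [Scheme.IdealSheafData.coe_support_vanishingIdeal]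
      intro hd
      exact hgen ((hsub z d).trans hd)
    have hi := (Scheme.homeoOfIso (asIso (σ ∣_ U))).injective
    have heq := @hi ⟨_, hm c⟩ ⟨_, hm c'⟩ (Subtype.ext (by
      simp only [Scheme.homeoOfIso_apply, asIso_hom, morphismRestrict_base]
      exact hsub c c'))
    exact congrArg (fun w : ↥(σ ⁻¹ᵁ U) => (w : X)) heq⟩
  have h := topologicalKrullDim_zero_of_discreteTopology C.subscheme
  rw [SurfInt.Surface.dim_subscheme, hCd] at h
  exact not_le.mpr zero_lt_one h

/-- An effective divisor not meeting `H` is a multiple of the exceptional curve. -/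
theorem multiple_of_deg_zero {G : X.IdealSheafData} (hG : BlowUp.IsEffCartierIdeal G) :
    dot (_root_.ClSub.idealMod G) HH1 = 0 → ∃ m : ℕ, ∀ P : X.Modules, PicF.IsInvertible P →
      dot (_root_.ClSub.idealMod G) P = m * dot II P := by
  have hfin := Snapper.Finite.cohFinite k X
  have hreg := SurfInt.NegDef.regular_of_smooth (k := k) (X := X)
  have hH := isInvertible_H hσk hx hσ hdim
  refine SurfInt.Mul.induction (X ↘ Spec (CommRingCat.of k)) hdim hreg
    (P := fun G => dot (_root_.ClSub.idealMod G) HH1 = 0 → ∃ m : ℕ, ∀ P : X.Modules,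
      PicF.IsInvertible P → dot (_root_.ClSub.idealMod G) P = m * dot II P)
    (fun _ => ⟨0, fun P hP => by rw [SurfInt.NegDef.intNum_top hfin hdim hP]; simp⟩)
    (fun C hint G hCd hG ih h0 => ?_) hG
  haveI := hint
  have hC := SurfInt.NegDef.isEff hfin hdim hreg C hCd
  rw [SurfInt.NegDef.intNum_mul hfin hdim hC hG hH] at h0
  obtain ⟨h1, h2⟩ := deg_H hσk hx hσ hdim C hCd
  have h3 := SurfInt.NefInt.nonneg_effective hdim hH
    (fun C' hC' hC'd => by haveI := hC'; exact (deg_H hσk hx hσ hdim C' hC'd).1) hG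
  obtain ⟨m, hm⟩ := ih (by linarith)
  obtain rfl := h2 (by linarith)
  exact ⟨m + 1, fun P hP => by
    rw [SurfInt.NegDef.intNum_mul hfin hdim hC hG hP, hm P hP]; push_cast; ring⟩

local notation "FF" => CohB1.tensorMod HH1 II

/-- `H - E` is nef. -/
theorem nef_F (C : X.IdealSheafData) [IsIntegral C.subscheme]
    (hCd : topologicalKrullDim (C.support : Set X) = 1) :
    dot (_root_.ClSub.idealMod C) FF ≤ 0 := by
  classical
  have hfin := Snapper.Finite.cohFinite k X
  have hreg := SurfInt.NegDef.regular_of_smooth (k := k) (X := X)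
  have hO := Snapper.Twist.isCoh_structureModule X
  have hH := isInvertible_H hσk hx hσ hdim
  have hI := isInvertible_E hσk hx hσ hdim
  have hF := TensorMod.Invertible.isInvertible_tensorMod hH hI
  have hC := SurfInt.NegDef.isEff hfin hdim hreg C hCd
  have hIC := SurfInt.Effective.isInvertible_idealMod hC
  obtain ⟨tHH, tHI, tII, tχ⟩ := table hσk hx hσ hdim
  have tIH : dot II HH1 = 0 := by rw [Snapper.IntNum.intNum_pair_comm]; exact tHI
  have expand : ∀ P : X.Modules, PicF.IsInvertible P → dot FF P = dot HH1 P + dot II P := fun P hP =>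
    Snapper.IntNum.intNum_pair_tensor_left hfin hdim.le hH hI hP hO
  by_cases hCE : C = EE
  · subst hCE
    rw [Snapper.IntNum.intNum_pair_comm, expand _ hI, tHI, tII]
    norm_num
  obtain ⟨W, hW⟩ := PlaneBlow.exists_canonical hdim σ hσk hx (Set.finite_singleton x) hσ
  have hWi := Duality.isInvertible_canonical hdim hW
  -- a section of `H - E`
  have hFH : dot FF HH1 = 1 := by rw [expand _ hH, tHH, tIH]; norm_num
  haveI h2 := PlaneBlow.subsingleton_h2 hdim σ hσk hx (Set.finite_singleton x) hσ hF (by omega)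
  have hFsec : Module.finrank k (Coh.HH X FF 0) ≠ 0 := by
    intro h0
    have hrr := Proper.riemannRoch hdim hW hF
    have hHW := (PlaneBlow.intNum_self_canonical hdim σ hσk hx (Set.finite_singleton x) hσ hW).2
    have hadj := adjunction hσk hx hσ hdim hσ.1 hW
    rw [tII, tχ] at hadj
    have hχO : Curv2.euler k X (Coh.structureModule X) = 1 := by
      letI : ((CohB1.ProjSpace 2 k)).Over (Spec (CommRingCat.of k)) := ⟨CohB1.ProjSpace.toSpec 2 k⟩
      haveI : IsProper ((CohB1.ProjSpace 2 k) ↘ Spec (CommRingCat.of k)) :=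
        inferInstanceAs (IsProper (CohB1.ProjSpace.toSpec 2 k))
      haveI : IsIntegral (CohB1.ProjSpace 2 k) := ProjSpace.Basic.isIntegral_projSpace 2 k
      haveI := Curves.GlobalSections.isNoetherian_of_proper k (CohB1.ProjSpace 2 k)
      rw [Snapper.Chi.euler_eq_eulerCharLE hdim.le,
        PointBlow96.eulerCharLE_structure k dim_plane reg_plane hx
          (show σ ≫ ((CohB1.ProjSpace 2 k) ↘ Spec (CommRingCat.of k)) = X ↘ Spec (CommRingCat.of k) from hσk) hσ,
        ← Snapper.Chi.euler_eq_eulerCharLE dim_plane.le,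
        ← Curves.Euler.euler_eq_of_iso (twZero (n := 2) (R := k)),
        LinSub.euler_tw (n := 2) (k := k) (by norm_num) 0]
      show Ring.choose ((0 : ℤ) + (2 : ℕ)) 2 = 1
      rw [show ((0 : ℤ) + (2 : ℕ)) = ((2 : ℕ) : ℤ) by norm_num, Ring.choose_natCast]
      rfl
    rw [expand _ hF, Snapper.IntNum.intNum_pair_comm HH1 FF, Snapper.IntNum.intNum_pair_comm II FF,
      expand _ hH, expand _ hI, expand _ hWi, tHH, tHI, tIH, tII, hχO, hHW] at hrr
    rw [Snapper.Chi.euler_eq_eulerCharLE hdim.le] at hrr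
    unfold FGA.eulerCharLE at hrr
    simp only [Finset.sum_range_succ, Finset.sum_range_zero, h0,
      Module.finrank_zero_of_subsingleton (R := k) (M := Coh.HH X FF 2)] at hrr
    norm_num at hrr
    linarith
  obtain ⟨s, hs⟩ := SurfInt.Bound.exists_hom_of_finrank_ne_zero (k := k) FF hFsec
  obtain ⟨hD, -, -, -⟩ := SurfInt.Div.divisor_spec hF s hs
  have hDP := fun (P : X.Modules) (hP : PicF.IsInvertible P) =>
    SurfInt.Bound.intNum_zeroScheme (k := k) hfin hdim hF s hs hP
  by_cases hsub : (C.support : Set X) ⊆ ((PicF2.zeroScheme FF s).support : Set X)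
  · obtain ⟨D', hD', hmul, -⟩ := SurfInt.Mul.exists_residual (X ↘ Spec (CommRingCat.of k)) hdim hreg
      hD C hCd hsub
    have hdec : ∀ P : X.Modules, PicF.IsInvertible P →
        dot (_root_.ClSub.idealMod C) P + dot (_root_.ClSub.idealMod D') P = - (dot HH1 P + dot II P) :=
      fun P hP => by
        rw [← SurfInt.NegDef.intNum_mul hfin hdim hC hD' hP, hmul, hDP P hP, expand P hP]
    obtain ⟨hc1, hc2⟩ := deg_H hσk hx hσ hdim C hCd
    have hc3 : dot (_root_.ClSub.idealMod C) HH1 ≠ 0 := fun h => hCE (hc2 h)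
    have hd3 := SurfInt.NefInt.nonneg_effective hdim hH
      (fun C' hC' hC'd => by haveI := hC'; exact (deg_H hσk hx hσ hdim C' hC'd).1) hD'
    have e0 := hdec _ hH
    rw [tHH, tIH] at e0
    obtain ⟨m, hm⟩ := multiple_of_deg_zero hσk hx hσ hdim hD' (by omega)
    have hCP : ∀ P : X.Modules, PicF.IsInvertible P →
        dot (_root_.ClSub.idealMod C) P = - dot HH1 P - (m + 1) * dot II P := fun P hP => by
      have := hdec P hP
      rw [hm P hP] at this
      linarith
    -- adjunction leaves one possibility for the multiplicity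
    have hadjC := adjunction hσk hx hσ hdim hC hW
    have hgC := euler_quot_le_one hσk hx hσ hdim C hCd
    have hadj := adjunction hσk hx hσ hdim hσ.1 hW
    rw [tII, tχ] at hadj
    have hHW := (PlaneBlow.intNum_self_canonical hdim σ hσk hx (Set.finite_singleton x) hσ hW).2
    have cH := hCP _ hH
    have cI := hCP _ hI
    rw [tHH, tIH] at cH
    rw [tHI, tII] at cI
    rw [hCP _ hWi, hHW, hCP _ hIC, Snapper.IntNum.intNum_pair_comm HH1 (_root_.ClSub.idealMod C),
      Snapper.IntNum.intNum_pair_comm II (_root_.ClSub.idealMod C), cH, cI] at hadjC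
    rw [Snapper.IntNum.intNum_pair_comm, expand _ hIC,
      Snapper.IntNum.intNum_pair_comm HH1 (_root_.ClSub.idealMod C),
      Snapper.IntNum.intNum_pair_comm II (_root_.ClSub.idealMod C), cH, cI]
    have : (m : ℤ) = 0 := by nlinarith [Int.natCast_nonneg m]
    linarith
  · have h := SurfInt.Surface.intNum_nonneg hfin hdim hreg C hCd hD hsub
    rw [Snapper.IntNum.intNum_pair_comm, hDP _ hIC, Snapper.IntNum.intNum_pair_comm] at h
    linarith

theorem intNum_pow (b : ℕ) {P : X.Modules} (hP : PicF.IsInvertible P) :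
    dot (_root_.ClSub.idealMod (EE ^ b)) P = b * dot II P := by
  have hfin := Snapper.Finite.cohFinite k X
  induction b with
  | zero =>
    rw [pow_zero, Scheme.IdealSheafData.one_eq_top, SurfInt.NegDef.intNum_top hfin hdim hP]
    simp
  | succ n ih =>
    rw [pow_succ, SurfInt.NegDef.intNum_mul hfin hdim (Ideal.EffCartier.isEffCartier_pow hσ.1 n) hσ.1 hP, ih]
    push_cast; ring

theorem intNum_tw (p : ℤ) :
    dot ((Scheme.Modules.pullback σ).obj (Twist.twistProjSpace 2 k p)) HH1 = p := by
  have hfin := Snapper.Finite.cohFinite k X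
  have hO := Snapper.Twist.isCoh_structureModule X
  have hH := isInvertible_H hσk hx hσ hdim
  have hinv : ∀ q : ℤ, PicF.IsInvertible ((Scheme.Modules.pullback σ).obj (tw 2 k q)) := fun q =>
    PicLoc.isInvertible_pullback σ (isInvertible_tw (n := 2) (R := k) q)
  let f : ℤ → ℤ := fun q => dot ((Scheme.Modules.pullback σ).obj (tw 2 k q)) HH1
  have hadd : ∀ a b : ℤ, f (a + b) = f a + f b := fun a b => by
    show _ = dot ((Scheme.Modules.pullback σ).obj (tw 2 k a)) HH1 + dot ((Scheme.Modules.pullback σ).obj (tw 2 k b)) HH1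
    rw [← Snapper.IntNum.intNum_pair_tensor_left hfin hdim.le (hinv a) (hinv b) hH hO]
    exact SurfInt.NegDef.intNum_congr_left (k := k)
      ((Scheme.Modules.pullback σ).mapIso (twTensor (n := 2) (R := k) a b).symm ≪≫
        TensorMod.Pullback.pullbackTensorIso σ _ _)
  have h1 : f 1 = 1 := (table hσk hx hσ hdim).1
  show f p = p
  induction p using Int.induction_on with
  | zero => have := hadd 0 0; simp at this; omega
  | succ i hi => rw [hadd, hi, h1]
  | pred i hi => have := hadd (-i - 1) 1; rw [sub_add_cancel, hi, h1] at this; omega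

/-- `pH - bE` has no sections for `p < b`. -/
theorem subsingleton_h0 {p : ℤ} {b : ℕ} (hpb : p < b) :
    Module.finrank k (Coh.HH X (CohB1.tensorMod ((Scheme.Modules.pullback σ).obj
      (Twist.twistProjSpace 2 k p)) (_root_.ClSub.idealMod (EE ^ b))) 0) = 0 := by
  letI : ((CohB1.ProjSpace 2 k)).Over (Spec (CommRingCat.of k)) := ⟨CohB1.ProjSpace.toSpec 2 k⟩
  haveI : IsProper ((CohB1.ProjSpace 2 k) ↘ Spec (CommRingCat.of k)) :=
    inferInstanceAs (IsProper (CohB1.ProjSpace.toSpec 2 k))
  haveI : IsIntegral (CohB1.ProjSpace 2 k) := ProjSpace.Basic.isIntegral_projSpace 2 k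
  have hfin := Snapper.Finite.cohFinite k X
  have hO := Snapper.Twist.isCoh_structureModule X
  have hH := isInvertible_H hσk hx hσ hdim
  have hI := isInvertible_E hσk hx hσ hdim
  have hF := TensorMod.Invertible.isInvertible_tensorMod hH hI
  have hp : PicF.IsInvertible ((Scheme.Modules.pullback σ).obj (Twist.twistProjSpace 2 k p)) :=
    PicLoc.isInvertible_pullback σ (isInvertible_tw (n := 2) (R := k) p)
  have hb := SurfInt.Effective.isInvertible_idealMod (Ideal.EffCartier.isEffCartier_pow hσ.1 b)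
  have hM := TensorMod.Invertible.isInvertible_tensorMod hp hb
  by_contra h
  obtain ⟨s, hs⟩ := SurfInt.Bound.exists_hom_of_finrank_ne_zero (k := k) _ h
  obtain ⟨hD, -, -, -⟩ := SurfInt.Div.divisor_spec hM s hs
  have h1 := SurfInt.NefInt.nonneg_effective hdim hF
    (fun C' hC' hC'd => by haveI := hC'; exact nef_F hσk hx hσ hdim C' hC'd) hD
  rw [SurfInt.Bound.intNum_zeroScheme (k := k) hfin hdim hM s hs hF,
    Snapper.IntNum.intNum_pair_tensor_left hfin hdim.le hp hb hF hO,
    intNum_pow hσk hx hσ hdim b hF, Snapper.IntNum.intNum_pair_comm II FF,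
    Snapper.IntNum.intNum_pair_comm _ FF,
    Snapper.IntNum.intNum_pair_tensor_left hfin hdim.le hH hI hp hO,
    Snapper.IntNum.intNum_pair_tensor_left hfin hdim.le hH hI hI hO,
    Snapper.IntNum.intNum_pair_comm HH1 ((Scheme.Modules.pullback σ).obj (Twist.twistProjSpace 2 k p)),
    intNum_tw hσk hx hσ hdim p, Snapper.IntNum.intNum_pair_comm II ((Scheme.Modules.pullback σ).obj (Twist.twistProjSpace 2 k p))] at h1
  obtain ⟨-, tHI, tII, -⟩ := table hσk hx hσ hdim
  have htI : dot ((Scheme.Modules.pullback σ).obj (Twist.twistProjSpace 2 k p)) II = 0 :=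
    PointBlow96.intNum_pullback_exceptional k dim_plane reg_plane hx
      (show σ ≫ ((CohB1.ProjSpace 2 k) ↘ Spec (CommRingCat.of k)) = X ↘ Spec (CommRingCat.of k) from hσk) hσ
      (isInvertible_tw (n := 2) (R := k) p)
  rw [tHI, tII, htI] at h1
  omega

end Groth.Agent.Lib.H27.PlanePoint
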