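import Groth.Agent.Lib.H27.PlanePoint
import Groth.Agent.S13915

/-!
# Cohomology of `pH - bE` on the plane blown up at a point
-/

set_option autoImplicit false
set_option linter.style.haveILetI false
set_option linter.unusedSectionVars false
set_option quotPrecheck false
universe u

open CategoryTheory CategoryTheory.Limits AlgebraicGeometry TopologicalSpace

noncomputable section

namespace Groth.Agent.Lib.H27.PlanePointCoh

open Groth.Agent.Lib Groth.Agent.Lib.TensorMod.Basic Groth.Agent.Lib.ProjCoh.Coherent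
open Groth.Agent.Lib.TensorMod.Pullback (pb)
open Groth.Agent.Lib.SurfRR

variable {k : Type u} [Field k] [IsAlgClosed k]


variable {X : Scheme.{u}} [X.Over (Spec (CommRingCat.of k))] {σ : X ⟶ (CohB1.ProjSpace 2 k)}
  (hσk : σ ≫ CohB1.ProjSpace.toSpec 2 k = X ↘ Spec (CommRingCat.of k))
  {x : (CohB1.ProjSpace 2 k)} (hx : IsClosed ({x} : Set (CohB1.ProjSpace 2 k)))
  (hσ : BlowUp.IsBlowUp σ (Scheme.IdealSheafData.vanishingIdeal ⟨{x}, hx⟩))

local notation "EE" => BlowUp.exceptional σ (Scheme.IdealSheafData.vanishingIdeal ⟨{x}, hx⟩)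
local notation "MM" p:max b:max => CohB1.tensorMod
  ((Scheme.Modules.pullback σ).obj (Twist.twistProjSpace 2 k p)) (_root_.ClSub.idealMod (EE ^ b))
local notation "hh" p:max b:max i:max => Module.finrank k (Coh.HH X (MM p b) i)

variable [IsIntegral X] [IsProper (X ↘ Spec (CommRingCat.of k))]
  [Smooth (X ↘ Spec (CommRingCat.of k))] [IsNoetherian X] (hdim : topologicalKrullDim X = 2)

include hσk hσ hdim

theorem isInvertible_M (p : ℤ) (b : ℕ) : PicF.IsInvertible (MM p b) :=
  TensorMod.Invertible.isInvertible_tensorMod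
    (PicLoc.isInvertible_pullback σ (isInvertible_tw (n := 2) (R := k) p))
    (SurfInt.Effective.isInvertible_idealMod (Ideal.EffCartier.isEffCartier_pow hσ.1 b))

theorem h2_zero {p : ℤ} (b : ℕ) (hp : -2 ≤ p) : hh p b 2 = 0 := by
  have hfin := Snapper.Finite.cohFinite k X
  have hH := PlanePoint.isInvertible_H hσk hx hσ hdim
  haveI : Subsingleton (Coh.HH X (MM p b) 2) := by
    refine PlaneBlow.subsingleton_h2 hdim σ hσk hx (Set.finite_singleton x) hσ
      (isInvertible_M hσk hx hσ hdim p b) ?_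
    rw [Snapper.IntNum.intNum_pair_tensor_left hfin hdim.le
      (show PicF.IsInvertible ((Scheme.Modules.pullback σ).obj (Twist.twistProjSpace 2 k p)) from (PicLoc.isInvertible_pullback σ (isInvertible_tw (n := 2) (R := k) p)))
      (show PicF.IsInvertible (_root_.ClSub.idealMod (EE ^ b)) from (SurfInt.Effective.isInvertible_idealMod (Ideal.EffCartier.isEffCartier_pow hσ.1 b))) hH
      (Snapper.Twist.isCoh_structureModule X), PlanePoint.intNum_tw hσk hx hσ hdim p,
      PlanePoint.intNum_pow hσk hx hσ hdim b hH, Snapper.IntNum.intNum_pair_comm,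
      (PlanePoint.table hσk hx hσ hdim).2.1]
    omega
  exact Module.finrank_zero_of_subsingleton

theorem step (p : ℤ) (b : ℕ) :
    (hh p (b + 1) 1 = 0 → hh p b 1 = 0) ∧ hh p (b + 1) 2 = hh p b 2 := by
  letI : ((CohB1.ProjSpace 2 k)).Over (Spec (CommRingCat.of k)) := ⟨CohB1.ProjSpace.toSpec 2 k⟩
  haveI : IsProper ((CohB1.ProjSpace 2 k) ↘ Spec (CommRingCat.of k)) :=
    inferInstanceAs (IsProper (CohB1.ProjSpace.toSpec 2 k))
  haveI : IsIntegral (CohB1.ProjSpace 2 k) := ProjSpace.Basic.isIntegral_projSpace 2 k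
  have hfin := Snapper.Finite.cohFinite k X
  obtain ⟨hEint, hEd⟩ := PlanePoint.exceptional_curve hσk hx hσ hdim
  haveI := hEint
  obtain ⟨-, -, tII, tχ⟩ := PlanePoint.table hσk hx hσ hdim
  have hI := PlanePoint.isInvertible_E hσk hx hσ hdim
  have hM := isInvertible_M hσk hx hσ hdim p b
  have htI : FGA.intNum k X 2 ![(Scheme.Modules.pullback σ).obj (Twist.twistProjSpace 2 k p), _root_.ClSub.idealMod EE] (Coh.structureModule X) = 0 :=
    PointBlow96.intNum_pullback_exceptional k PlanePoint.dim_plane PlanePoint.reg_plane hx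
      (show σ ≫ ((CohB1.ProjSpace 2 k) ↘ Spec (CommRingCat.of k)) = X ↘ Spec (CommRingCat.of k) from hσk) hσ
      (isInvertible_tw (n := 2) (R := k) p)
  have hS := Snapper.Twist.twistSeq_shortExact hM (ClSub.Quot.idealSeq_shortExact EE)
  set S := Snapper.Twist.twistSeq (MM p b) (ClSub.Quot.idealSeq EE)
  haveI h1 : Subsingleton (Coh.HH X S.X₃ 1) := by
    refine PlanePoint.subsingleton_h1_twist hσk hx hσ hdim EE hEd (by rw [tχ]) hM ?_
    rw [Snapper.IntNum.intNum_pair_comm, Snapper.IntNum.intNum_pair_tensor_left hfin hdim.le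
      (show PicF.IsInvertible ((Scheme.Modules.pullback σ).obj (Twist.twistProjSpace 2 k p)) from (PicLoc.isInvertible_pullback σ (isInvertible_tw (n := 2) (R := k) p)))
      (show PicF.IsInvertible (_root_.ClSub.idealMod (EE ^ b)) from (SurfInt.Effective.isInvertible_idealMod (Ideal.EffCartier.isEffCartier_pow hσ.1 b))) hI
      (Snapper.Twist.isCoh_structureModule X), PlanePoint.intNum_pow hσk hx hσ hdim b hI, tII, htI]
    omega
  haveI h2 : Subsingleton (Coh.HH X S.X₃ 2) :=
    SurfInt.H2Basic.subsingleton_h2_quot (k := k) hdim hσ.1 hM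
  obtain ⟨e⟩ := SurfInt.Mul.nonempty_idealMod_mul (Ideal.EffCartier.isEffCartier_pow hσ.1 b) EE
  let e1 : S.X₁ ≅ MM p (b + 1) :=
    assoc _ _ _ ≪≫ tensorIso (Iso.refl _) (e ≪≫ eqToIso (by rw [pow_succ]))
  let e2 : S.X₂ ≅ MM p b := rightUnit _
  constructor
  · intro h
    haveI := hfin _ (Ample.GG.isCoh_of_isInvertible (isInvertible_M hσk hx hσ hdim p (b + 1))) 1
    haveI : Subsingleton (Coh.HH X (MM p (b + 1)) 1) := Module.finrank_zero_iff.1 h
    haveI : Subsingleton (Coh.HH X S.X₁ 1) := (Curves.LES.isoK k e1 1).toEquiv.subsingleton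
    haveI : Subsingleton (Coh.HH X S.X₂ 1) := subsingleton_of_forall_eq 0 fun y => by
      obtain ⟨z, hz⟩ := (Curves.LES.exactK₂ k hS 1 y).mp (Subsingleton.elim _ _)
      rw [← hz, Subsingleton.elim z 0, map_zero]
    haveI : Subsingleton (Coh.HH X (MM p b) 1) := (Curves.LES.isoK k e2 1).symm.toEquiv.subsingleton
    exact Module.finrank_zero_of_subsingleton
  · have hb : Function.Bijective (Curves.LES.mapK k S.f 2) := by
      refine ⟨(injective_iff_map_eq_zero _).2 fun y hy => ?_, fun y => ?_⟩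
      · obtain ⟨z, rfl⟩ := (Curves.LES.exactK₁ k hS 1 2 rfl y).1 hy
        rw [Subsingleton.elim z 0, map_zero]
      · exact (Curves.LES.exactK₂ k hS 2 y).1 (Subsingleton.elim _ _)
    exact ((Curves.LES.isoK k e1 2).finrank_eq.symm.trans (LinearEquiv.ofBijective _ hb).finrank_eq).trans
      (Curves.LES.isoK k e2 2).finrank_eq

theorem h1_base (p : ℤ) : hh p 0 1 = 0 := by
  letI : ((CohB1.ProjSpace 2 k)).Over (Spec (CommRingCat.of k)) := ⟨CohB1.ProjSpace.toSpec 2 k⟩
  haveI : IsProper ((CohB1.ProjSpace 2 k) ↘ Spec (CommRingCat.of k)) :=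
    inferInstanceAs (IsProper (CohB1.ProjSpace.toSpec 2 k))
  haveI : IsIntegral (CohB1.ProjSpace 2 k) := ProjSpace.Basic.isIntegral_projSpace 2 k
  haveI := Curves.GlobalSections.isNoetherian_of_proper k (CohB1.ProjSpace 2 k)
  have hσk' : σ ≫ ((CohB1.ProjSpace 2 k) ↘ Spec (CommRingCat.of k)) = X ↘ Spec (CommRingCat.of k) := hσk
  haveI := PlanePoint.reg_plane (k := k) x
  have hd := PointBlow96.stalk_dim PlanePoint.dim_plane hx ((CohB1.ProjSpace 2 k) ↘ Spec (CommRingCat.of k))
  haveI := PointBlow96.isIso_unit k PlanePoint.dim_plane PlanePoint.reg_plane hx hσk' hσ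
  let L := Twist.twistProjSpace 2 k p
  have hL : PicF.IsInvertible L := isInvertible_tw (n := 2) (R := k) p
  let eO : Coh.structureModule (CohB1.ProjSpace 2 k) ≅ (Coh.push σ).obj (Coh.structureModule X) :=
    asIso (_root_.ClSub.unitToPush σ)
  have hE := Modules.DualBasis.hasDBases_of_isFinLocFree
    (TensorMod.LocFree.of_rank (TensorMod.LocFree.of_isInvertible hL))
  let e : (Coh.push σ).obj ((pb σ).obj L) ≅ L :=
    (Coh.push σ).mapIso (rightUnit ((pb σ).obj L)).symm ≪≫
      ((Modules.ProjFormula.projIso σ hE).app (Coh.structureModule X)).symm ≪≫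
      tensorIso (Iso.refl L) eO.symm ≪≫ rightUnit L
  haveI : ((pb σ).obj L).IsQuasicoherent :=
    TensorMod.QCohInv.isQCoh_of_isInvertible (PicLoc.isInvertible_pullback σ hL)
  let B : Set (Opens (CohB1.ProjSpace 2 k)) := {W | PointBlow96.Good (PointBlow96.ptI hx) W ∧ ∃ e : Γ(L, W), TensorMod.Gen.IsGen L W e}
  have hB : Opens.IsBasis B := by
    rw [Opens.isBasis_iff_nbhd]
    intro O y hy
    obtain ⟨V, e, hyV, he⟩ := TensorMod.Gen.isInvertible_iff.1 hL y
    obtain ⟨W, hW, hyW, hle⟩ := PointBlow96.exists_good hx hd y (O := O ⊓ V) ⟨hy, hyV⟩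
    exact ⟨W, ⟨hW, _, he.res (hle.trans inf_le_right)⟩, hyW, hle.trans inf_le_left⟩
  have hv : ∀ W ∈ B, ∀ q, Subsingleton
      (CohTop.HU (Coh.toAb ((pb σ).obj L)) (q + 1) ((Opens.map σ.base).obj W)) := by
    rintro W ⟨hW, eW, he⟩ q
    exact PointBlow96.subsingleton_HU hσ hW _ (TensorMod.Pullback.unitSec σ L eW)
      (fun V _ h => (Ample.GenLocus.isGen_unitSec σ he V h).2) q
  let Eq : Coh.HH (CohB1.ProjSpace 2 k) ((Coh.push σ).obj ((pb σ).obj L)) 1 ≃ₗ[k] Coh.HH X ((pb σ).obj L) 1 :=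
    { ZarCoh.PushH.pushEquiv σ.base hB (Coh.toAb ((pb σ).obj L)) hv 1 with
      map_smul' := fun a z =>
        ZarCoh.Morph.pushH_smul σ ((pb σ).obj L) 1 _ _ (ZarCoh.Linear.toGlobal_comp σ hσk' a) z }
  haveI : Subsingleton (Coh.HH (CohB1.ProjSpace 2 k) L 1) := by
    have := ProjKoszul.Reg2.subsingleton_tw (n := 2) (R := k) (d := p) (q := 1) (Or.inr (by omega)) (by omega)
    exact this
  haveI : IsIso (_root_.ClSub.idealModι (EE ^ 0)) := by
    have hz : IsZero (_root_.ClSub.quotMod (EE ^ 0)) := by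
      refine Modules.Support.support_eq_empty_iff.mp ?_
      rw [ClSub.Quot.support_quotMod, pow_zero, Scheme.IdealSheafData.one_eq_top,
        Scheme.IdealSheafData.support_top]
      rfl
    haveI : Mono (_root_.ClSub.idealModι (EE ^ 0)) := ClSub.Quot.mono_idealModι _
    haveI : Epi (_root_.ClSub.idealModι (EE ^ 0)) :=
      (ClSub.Quot.idealSeq_shortExact (EE ^ 0)).exact.epi_f (hz.eq_of_tgt _ _)
    exact isIso_of_mono_of_epi _
  let e0 : MM p 0 ≅ (pb σ).obj L :=
    tensorIso (Iso.refl _) (asIso (_root_.ClSub.idealModι (EE ^ 0))) ≪≫ rightUnit _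
  rw [(((Curves.LES.isoK k e0 1).trans Eq.symm).trans (Curves.LES.isoK k e 1)).finrank_eq]
  exact Module.finrank_zero_of_subsingleton

theorem euler_M [CharZero k] (p : ℤ) (b : ℕ) :
    (hh p b 0 : ℤ) - hh p b 1 + hh p b 2 = (p * p + 3 * p) / 2 - ((b : ℤ) * b + b) / 2 + 1 := by
  have h := Groth.Agent.S13915.result k x hx σ hσk hσ p b
  rw [Snapper.Chi.euler_eq_eulerCharLE hdim.le] at h
  unfold FGA.eulerCharLE at h
  simp only [Finset.sum_range_succ, Finset.sum_range_zero] at h
  rw [← h]; ring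

omit hσk hσ hdim in
theorem choose_two (n : ℕ) : 2 * (n.choose 2 : ℤ) = (n : ℤ) * n - n := by
  induction n with
  | zero => simp
  | succ n ih => rw [Nat.choose_succ_succ, Nat.choose_one_right]; push_cast; linarith

theorem main [CharZero k] (p : ℤ) (b : ℕ) :
    ((b : ℤ) ≤ p → (hh p b 0 : ℤ) = ((p + 2).toNat.choose 2 : ℤ) - ((b + 1).choose 2 : ℤ) ∧
      hh p b 1 = 0 ∧ hh p b 2 = 0) ∧
    (p = (b : ℤ) - 1 → hh p b 0 = 0 ∧ hh p b 1 = 0 ∧ hh p b 2 = 0) ∧
    (p ≤ (b : ℤ) - 2 → hh p b 0 = 0 ∧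
      (hh p b 1 : ℤ) = ((b + 1).choose 2 : ℤ) - ((p + 2).toNat.choose 2 : ℤ) ∧
      hh p b 2 = (-p - 1).toNat.choose 2) := by
  obtain ⟨m1, hm1⟩ : ∃ m, p * p + 3 * p = 2 * m := by
    obtain ⟨m, hm⟩ := Int.even_mul_succ_self p; exact ⟨m + p, by linarith⟩
  have hbb : ((b : ℤ) * b + b) / 2 = ((b + 1).choose 2 : ℤ) := by
    have := choose_two (b + 1); push_cast at this
    rw [show (b : ℤ) * b + b = 2 * ((b + 1).choose 2 : ℤ) by linarith, Int.mul_ediv_cancel_left _ two_ne_zero]
  have hpos : -2 ≤ p → m1 + 1 = ((p + 2).toNat.choose 2 : ℤ) := fun h => by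
    have := choose_two (p + 2).toNat
    rw [Int.toNat_of_nonneg (by omega)] at this
    linarith
  have hneg : p ≤ -1 → m1 + 1 = ((-p - 1).toNat.choose 2 : ℤ) := fun h => by
    have := choose_two (-p - 1).toNat
    rw [Int.toNat_of_nonneg (by omega)] at this
    linarith
  have hz1 : p ≤ -2 → (p + 2).toNat.choose 2 = 0 := fun h => by
    rw [Int.toNat_of_nonpos (by omega)]; rfl
  have hz2 : -2 ≤ p → (-p - 1).toNat.choose 2 = 0 := fun h =>
    Nat.choose_eq_zero_of_lt (by omega)
  have hχ : ∀ c : ℕ, (hh p c 0 : ℤ) - hh p c 1 + hh p c 2 = m1 - ((c : ℤ) * c + c) / 2 + 1 := fun c => by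
    rw [euler_M hσk hx hσ hdim p c, hm1, Int.mul_ediv_cancel_left _ two_ne_zero]
  have h0 : ∀ c : ℕ, p < c → hh p c 0 = 0 := fun c hc => PlanePoint.subsingleton_h0 hσk hx hσ hdim hc
  have h2c : hh p b 2 = (-p - 1).toNat.choose 2 := by
    rcases le_or_gt (-2) p with hp | hp
    · rw [hz2 hp]; exact h2_zero hσk hx hσ hdim b hp
    · have hc : ∀ c, hh p c 2 = hh p 0 2 := fun c => by
        induction c with
        | zero => rfl
        | succ n ih => exact (step hσk hx hσ hdim p n).2.trans ih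
      have h := hχ 0
      simp only [h0 0 (by omega), h1_base hσk hx hσ hdim p] at h
      rw [hc b]
      have := hneg (by omega)
      push_cast at h
      omega
  have h1v : (b : ℤ) ≤ p + 1 → hh p b 1 = 0 := fun hb => by
    obtain ⟨N, hN⟩ : ∃ N : ℕ, p + 1 = N := ⟨(p + 1).toNat, (Int.toNat_of_nonneg (by omega)).symm⟩
    have top : hh p N 1 = 0 := by
      have h := hχ N
      rw [show hh p N 2 = 0 from h2_zero hσk hx hσ hdim N (by omega), h0 N (by omega)] at h
      have e : (N : ℤ) * N + N = 2 * (m1 + 1) := by rw [← hN]; linarith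
      rw [e, Int.mul_ediv_cancel_left _ two_ne_zero] at h
      push_cast at h
      omega
    obtain ⟨j, rfl⟩ : ∃ j, N = b + j := ⟨N - b, by omega⟩
    clear hb hN
    induction j with
    | zero => exact top
    | succ n ih => exact ih ((step hσk hx hσ hdim p (b + n)).1 top)
  have h := hχ b
  rw [hbb, h2c] at h
  refine ⟨fun hb => ?_, fun hb => ?_, fun hb => ?_⟩
  · have := h1v (by omega); have := hpos (by omega); have := hz2 (by omega)
    refine ⟨by omega, by assumption, by omega⟩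
  · exact ⟨h0 b (by omega), h1v (by omega), by rw [h2c, hz2 (by omega)]⟩
  · have := h0 b (by omega)
    refine ⟨this, ?_, h2c⟩
    rcases le_or_gt (-2) p with hp | hp
    · have := hpos hp; have := hz2 hp; omega
    · have := hneg (by omega); have := hz1 (by omega); omega

end Groth.Agent.Lib.H27.PlanePointCoh
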